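import Mathlib

/-!
Non-degenerate theta groups: the commutator pairing and centralizers.
-/

set_option linter.style.haveILetI false

namespace ThetaRep

variable {k : Type*} [Field k] {Γ : Type*} [Group Γ]

/-- standing hypotheses -/
structure ThetaHyp (ι : kˣ →* Γ) : Prop where
  inj : Function.Injective ι
  cent : ι.range = Subgroup.center Γ
  comm : commutator Γ ≤ ι.range
  fin : Finite (Γ ⧸ ι.range)

namespace ThetaHyp

variable {ι : kˣ →* Γ} (hT : ThetaHyp ι)
include hT

lemma iota_comm (z : kˣ) (g : Γ) : g * ι z = ι z * g := by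
  have : ι z ∈ Subgroup.center Γ := hT.cent ▸ ⟨z, rfl⟩
  exact Subgroup.mem_center_iff.mp this g

lemma normal : ι.range.Normal := by
  rw [hT.cent]; infer_instance

open scoped commutatorElement in
lemma exists_comm (g x : Γ) : ∃ z : kˣ, g * x = ι z * (x * g) := by
  have h1 : ⁅g, x⁆ ∈ commutator Γ := by
    rw [commutator_def]
    exact Subgroup.commutator_mem_commutator (Subgroup.mem_top g) (Subgroup.mem_top x)
  obtain ⟨z, hz⟩ := hT.comm h1
  refine ⟨z, ?_⟩
  rw [hz, commutatorElement_def]; group

/-- the commutator pairing -/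
noncomputable def e (g x : Γ) : kˣ := (hT.exists_comm g x).choose

lemma e_spec (g x : Γ) : g * x = ι (hT.e g x) * (x * g) := (hT.exists_comm g x).choose_spec

lemma e_unique {g x : Γ} {z : kˣ} (h : g * x = ι z * (x * g)) : hT.e g x = z :=
  hT.inj (mul_right_cancel ((hT.e_spec g x).symm.trans h))

lemma e_eq_one_iff {g x : Γ} : hT.e g x = 1 ↔ g * x = x * g := by
  constructor
  · intro h; simpa [h] using hT.e_spec g x
  · intro h; apply hT.e_unique; simpa using h

lemma e_mul_left (g₁ g₂ x : Γ) : hT.e (g₁ * g₂) x = hT.e g₁ x * hT.e g₂ x := by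
  apply hT.e_unique
  rw [map_mul]
  calc g₁ * g₂ * x = g₁ * (ι (hT.e g₂ x) * (x * g₂)) := by rw [← hT.e_spec g₂ x, mul_assoc]
    _ = ι (hT.e g₂ x) * (g₁ * x) * g₂ := by
      rw [← mul_assoc, hT.iota_comm, mul_assoc, mul_assoc, mul_assoc]
    _ = ι (hT.e g₂ x) * ι (hT.e g₁ x) * (x * (g₁ * g₂)) := by
      rw [hT.e_spec g₁ x]; simp only [mul_assoc]
    _ = _ := by rw [← map_mul, ← map_mul, mul_comm]

lemma e_mul_right (g x₁ x₂ : Γ) : hT.e g (x₁ * x₂) = hT.e g x₁ * hT.e g x₂ := by
  apply hT.e_unique
  rw [map_mul]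
  calc g * (x₁ * x₂) = ι (hT.e g x₁) * (x₁ * g) * x₂ := by rw [← hT.e_spec g x₁, mul_assoc]
    _ = ι (hT.e g x₁) * (x₁ * (g * x₂)) := by simp only [mul_assoc]
    _ = ι (hT.e g x₁) * (x₁ * (ι (hT.e g x₂) * (x₂ * g))) := by rw [hT.e_spec g x₂]
    _ = _ := by
      rw [← mul_assoc x₁, hT.iota_comm]
      simp only [mul_assoc]

/-- the pairing as a bilinear map -/
noncomputable def E : Γ →* Γ →* kˣ where
  toFun g := MonoidHom.mk' (hT.e g) (hT.e_mul_right g)
  map_one' := by
    ext x; simp [hT.e_unique (g := 1) (x := x) (z := 1) (by simp)]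
  map_mul' a b := by ext x; simp [hT.e_mul_left]

@[simp] lemma E_apply (g x : Γ) : hT.E g x = hT.e g x := rfl

lemma e_iota_right (g : Γ) (z : kˣ) : hT.e g (ι z) = 1 :=
  hT.e_eq_one_iff.2 (hT.iota_comm z g)

lemma mem_range_of_forall {x : Γ} (h : ∀ g, hT.e g x = 1) : x ∈ ι.range := by
  rw [hT.cent, Subgroup.mem_center_iff]
  exact fun g => hT.e_eq_one_iff.1 (h g)

end ThetaHyp

/-- A finite group has at most as many characters as elements. -/
lemma card_hom_units_le (k : Type*) [Field k] (G : Type*) [Group G] [Finite G] :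
    Finite (G →* kˣ) ∧ Nat.card (G →* kˣ) ≤ Nat.card G := by
  have hinj : Function.Injective (fun f : G →* kˣ => (Units.coeHom k).comp f) := by
    intro f g h
    ext x
    exact congr($h x)
  have hli := linearIndependent_monoidHom G k
  haveI : Fintype G := Fintype.ofFinite G
  haveI : Finite (G →* k) := hli.finite
  haveI : Fintype (G →* k) := Fintype.ofFinite _
  refine ⟨Finite.of_injective _ hinj, ?_⟩
  refine (Nat.card_le_card_of_injective _ hinj).trans ?_
  have := hli.fintype_card_le_finrank
  rw [Module.finrank_fintype_fun_eq_card] at this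
  simpa [Nat.card_eq_fintype_card] using this

/-- For a pairing with values in `kˣ`, the left radical has index at most that of the right
radical. -/
lemma index_ker_le (k : Type*) [Field k] {A B : Type*} [Group A] [Group B] (f : A →* B →* kˣ)
    (hfin : f.flip.ker.index ≠ 0) : f.ker.index ≤ f.flip.ker.index := by
  have : f.flip.ker.FiniteIndex := ⟨hfin⟩
  have : Finite (B ⧸ f.flip.ker) := Subgroup.finite_quotient_of_finiteIndex
  obtain ⟨hf, hle⟩ := card_hom_units_le k (B ⧸ f.flip.ker)
  have hker : ∀ a, f.flip.ker ≤ (f a).ker := by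
    intro a b hb
    exact congr($(MonoidHom.mem_ker.1 hb) a)
  let φ : f.range → (B ⧸ f.flip.ker →* kˣ) := fun x =>
    QuotientGroup.lift f.flip.ker (x : B →* kˣ) (by
      obtain ⟨a, ha⟩ := x.2
      rw [← ha]; exact hker a)
  have hφ : Function.Injective φ := by
    intro x y h
    apply Subtype.ext
    ext b
    exact congrArg Units.val congr($h (b : B ⧸ f.flip.ker))
  rw [Subgroup.index_ker]
  exact (Nat.card_le_card_of_injective φ hφ).trans hle

namespace ThetaHyp

variable {ι : kˣ →* Γ} (hT : ThetaHyp ι)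
include hT

lemma index_ne_zero : ι.range.index ≠ 0 := by
  haveI := hT.fin
  exact Subgroup.index_ne_zero_of_finite

lemma relIndex_eq_index_centralizer {H : Subgroup Γ} (hH : ι.range ≤ H) :
    (Subgroup.centralizer (H : Set Γ)).index = ι.range.relIndex H := by
  let f : H →* Γ →* kˣ := hT.E.comp H.subtype
  have h1 : f.flip.ker = Subgroup.centralizer (H : Set Γ) := by
    ext g
    simp only [MonoidHom.mem_ker, MonoidHom.ext_iff, Subgroup.mem_centralizer_iff,
      SetLike.mem_coe, f, MonoidHom.flip_apply, MonoidHom.comp_apply, Subgroup.coe_subtype,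
      E_apply, MonoidHom.one_apply, hT.e_eq_one_iff, Subtype.forall]
  have h2 : f.ker = ι.range.subgroupOf H := by
    ext ⟨x, hx⟩
    simp only [MonoidHom.mem_ker, MonoidHom.ext_iff, Subgroup.mem_subgroupOf,
      f, MonoidHom.comp_apply, Subgroup.coe_subtype, E_apply, MonoidHom.one_apply,
      hT.e_eq_one_iff, hT.cent, Subgroup.mem_center_iff]
    exact forall_congr' fun g => eq_comm
  have hfl : f.flip.flip = f := by ext; rfl
  have hn : ι.range.index ≠ 0 := hT.index_ne_zero
  have hc : (Subgroup.centralizer (H : Set Γ)).index ≠ 0 := by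
    refine fun h0 => hn (Nat.eq_zero_of_zero_dvd (h0 ▸ Subgroup.index_dvd_of_le ?_))
    rw [hT.cent]
    exact Subgroup.center_le_centralizer _
  have hr : (ι.range.subgroupOf H).index ≠ 0 := by
    intro h0
    apply hn
    rw [← Subgroup.relIndex_mul_index hH, Subgroup.relIndex, h0, zero_mul]
  have a := index_ker_le k f (h1 ▸ hc)
  have b := index_ker_le k f.flip (by rw [hfl, h2]; exact hr)
  rw [h1, h2] at a
  rw [hfl, h1, h2] at b
  exact le_antisymm b a

theorem lagrangian_tfae (H : Subgroup Γ) (hH : ι.range ≤ H) :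
    List.TFAE [
      IsMulCommutative H ∧ ∀ H' : Subgroup Γ, IsMulCommutative H' → H ≤ H' → H' = H,
      IsMulCommutative H ∧ (ι.range.relIndex H) ^ 2 = ι.range.index,
      H = Subgroup.centralizer (H : Set Γ)] := by
  tfae_have 3 → 1 := by
    intro h
    refine ⟨Subgroup.le_centralizer_iff_isMulCommutative.1 h.le, fun H' hH' hle => ?_⟩
    refine le_antisymm ?_ hle
    rw [h]
    exact (Subgroup.le_centralizer_iff_isMulCommutative.2 hH').trans
      (Subgroup.centralizer_le (SetLike.coe_subset_coe.2 hle))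
  tfae_have 1 → 3 := by
    rintro ⟨hc, hmax⟩
    refine le_antisymm (Subgroup.le_centralizer_iff_isMulCommutative.2 hc) fun x hx => ?_
    have hcomm : IsMulCommutative (Subgroup.closure (insert x (H : Set Γ))) := by
      refine Subgroup.le_centralizer_iff_isMulCommutative.1 ?_
      rw [Subgroup.centralizer_closure]
      refine (Subgroup.closure_le _).2 ?_
      intro a ha
      rw [SetLike.mem_coe, Subgroup.mem_centralizer_iff]
      intro b hb
      rcases ha with rfl | ha <;> rcases hb with rfl | hb
      · rfl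
      · exact Subgroup.mem_centralizer_iff.1 hx b hb
      · exact (Subgroup.mem_centralizer_iff.1 hx a ha).symm
      · exact Subgroup.mem_centralizer_iff.1
          (Subgroup.le_centralizer_iff_isMulCommutative.2 hc ha) b hb
    have := hmax _ hcomm fun y hy => Subgroup.subset_closure (Set.mem_insert_of_mem _ hy)
    rw [← this]
    exact Subgroup.subset_closure (Set.mem_insert _ _)
  tfae_have 3 → 2 := by
    intro h
    refine ⟨Subgroup.le_centralizer_iff_isMulCommutative.1 h.le, ?_⟩
    have := hT.relIndex_eq_index_centralizer hH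
    rw [← h] at this
    rw [← Subgroup.relIndex_mul_index hH, this, sq]
  tfae_have 2 → 3 := by
    rintro ⟨hc, hsq⟩
    have hle := Subgroup.le_centralizer_iff_isMulCommutative.2 hc
    refine le_antisymm hle (Subgroup.relIndex_eq_one.1 ?_)
    have hn : ι.range.index ≠ 0 := hT.index_ne_zero
    have hr : ι.range.relIndex H ≠ 0 := fun h0 => hn (by rw [← hsq, h0]; simp)
    have h1 := Subgroup.relIndex_mul_index hH
    rw [← hsq, sq] at h1
    have h2 : H.index = ι.range.relIndex H := Nat.eq_of_mul_eq_mul_left (Nat.pos_of_ne_zero hr) h1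
    have h3 := Subgroup.relIndex_mul_index hle
    rw [hT.relIndex_eq_index_centralizer hH, h2] at h3
    exact Nat.eq_of_mul_eq_mul_right (Nat.pos_of_ne_zero hr) (h3.trans (one_mul _).symm)
  tfae_finish

end ThetaHyp

end ThetaRep
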