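import Groth.Agent.Lib.ThetaRep.Rep

/-!
Existence and uniqueness of the Schrödinger representation, and the invariants of a maximal
level subgroup.
-/

universe u

set_option linter.style.haveILetI false

namespace ThetaRep

open Module

variable {k : Type u} [Field k] [IsAlgClosed k] {Γ : Type u} [Group Γ] {ι : kˣ →* Γ}

namespace ThetaHyp

variable (hT : ThetaHyp ι)
include hT

lemma nonempty_equiv {V : Type u} [AddCommGroup V] [Module k V] [FiniteDimensional k V]
    {W : Type u} [AddCommGroup W] [Module k W]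
    {ρ : Representation k Γ V} {σ : Representation k Γ W}
    (hirr : Representation.IsIrreducible ρ) (hirr' : Representation.IsIrreducible σ)
    (hρ : IsW1 ι ρ) (hσ : IsW1 ι σ) : Nonempty (Representation.Equiv ρ σ) := by
  haveI := nontrivial_of_irreducible hirr
  haveI := nontrivial_of_irreducible hirr'
  obtain ⟨Φ, hΦ⟩ := hT.exists_algHom hirr hρ hσ
  let b := Module.finBasis k V
  obtain ⟨v₀, hv₀⟩ := exists_ne (0 : V)
  obtain ⟨φ, hφ⟩ := Module.Projective.exists_dual_eq_one k hv₀
  have hne : Φ (φ.smulRight v₀) ≠ 0 := by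
    intro h0
    apply one_ne_zero (α := Module.End k W)
    rw [← map_one Φ, show (1 : Module.End k V) = ∑ i, (b.coord i).smulRight (b i) by
      ext u; simp [b.sum_repr], map_sum]
    refine Finset.sum_eq_zero fun i _ => ?_
    have : (b.coord i).smulRight (b i) =
        φ.smulRight (b i) * φ.smulRight v₀ * (b.coord i).smulRight v₀ := by
      rw [mul_assoc, smulRight_mul_smulRight, hφ, one_smul, smulRight_mul_smulRight, hφ, one_smul]
    rw [this, map_mul, map_mul, h0, mul_zero, zero_mul]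
  obtain ⟨w, hw⟩ : ∃ w, Φ (φ.smulRight v₀) w ≠ 0 := by
    by_contra h; push Not at h; exact hne (LinearMap.ext h)
  let T : V →ₗ[k] W :=
    { toFun := fun v => Φ (φ.smulRight v) w
      map_add' := fun a b => by
        rw [← LinearMap.add_apply, ← map_add]; congr 2; ext; simp
      map_smul' := fun c a => by
        rw [RingHom.id_apply, ← LinearMap.smul_apply, ← map_smul]; congr 2; ext; simp [smul_comm c] }
  let f : Representation.IntertwiningMap ρ σ := ⟨T, fun g => LinearMap.ext fun v => by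
    show Φ (φ.smulRight (ρ g v)) w = σ g (Φ (φ.smulRight v) w)
    rw [← hΦ, ← Module.End.mul_apply, ← map_mul]
    congr 2; ext; simp⟩
  haveI := hirr
  haveI := hirr'
  rcases Representation.IsIrreducible.bijective_or_eq_zero f with hbij | h0
  · exact ⟨Representation.IntertwiningMap.ofBijective f hbij⟩
  · exact absurd (congrArg (fun f : Representation.IntertwiningMap ρ σ => f v₀) h0) (by
      simpa [f, T] using hw)

end ThetaHyp

/-- A nonzero finite-dimensional representation has an irreducible subrepresentation. -/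
lemma exists_irreducible_sub {W : Type u} [AddCommGroup W] [Module k W] [FiniteDimensional k W]
    [Nontrivial W] (σ : Representation k Γ W) :
    ∃ W' : Subrepresentation σ, Representation.IsIrreducible W'.toRepresentation := by
  classical
  have hex : ∃ n, ∃ W' : Subrepresentation σ, W'.toSubmodule ≠ ⊥ ∧
      finrank k W'.toSubmodule = n := ⟨_, ⊤, top_ne_bot, rfl⟩
  obtain ⟨W', hne, hrk⟩ := Nat.find_spec hex
  refine ⟨W', ?_⟩
  haveI : Nontrivial (Subrepresentation W'.toRepresentation) := by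
    refine ⟨⊥, ⊤, fun h => hne ?_⟩
    rw [Submodule.eq_bot_iff]
    intro x hx
    have : (⟨x, hx⟩ : W'.toSubmodule) ∈ (⊥ : Submodule k W'.toSubmodule) := by
      have h' : (⊥ : Submodule k W'.toSubmodule) = ⊤ := congrArg Subrepresentation.toSubmodule h
      rw [h']; trivial
    exact congrArg Subtype.val ((Submodule.mem_bot k).1 this)
  refine ⟨fun S => ?_⟩
  by_cases hS : S.toSubmodule = ⊥
  · exact Or.inl (Subrepresentation.toSubmodule_injective hS)
  right
  apply Subrepresentation.toSubmodule_injective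
  let S' : Subrepresentation σ := ⟨S.toSubmodule.map W'.toSubmodule.subtype, by
    rintro g _ ⟨x, hx, rfl⟩
    exact ⟨_, S.apply_mem_toSubmodule g hx, rfl⟩⟩
  have hrkS : finrank k S'.toSubmodule = finrank k S.toSubmodule :=
    (Submodule.equivMapOfInjective _ W'.toSubmodule.injective_subtype S.toSubmodule).finrank_eq.symm
  have hge : Nat.find hex ≤ finrank k S.toSubmodule := by
    refine Nat.find_min' hex ⟨S', ?_, hrkS⟩
    intro h
    apply hS
    exact Submodule.map_injective_of_injective W'.toSubmodule.injective_subtype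
      (h.trans (Submodule.map_bot _).symm)
  exact Submodule.eq_top_of_finrank_eq
    (le_antisymm (Submodule.finrank_le _) (hrk ▸ hge))

namespace ThetaHyp

variable (hT : ThetaHyp ι)
include hT

lemma exists_irreducible : ∃ (V : FDRep k Γ),
    Representation.IsIrreducible V.ρ ∧ IsW1 ι V.ρ := by
  classical
  haveI := hT.fin
  let F : Submodule k (Γ → k) :=
    { carrier := {f | ∀ (z : kˣ) g, f (ι z * g) = (z : k) * f g}
      add_mem' := fun {a b} ha hb z g => by simp only [Pi.add_apply, ha z g, hb z g, mul_add]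
      zero_mem' := fun z g => by simp
      smul_mem' := fun c {a} ha z g => by
        simp only [Pi.smul_apply, smul_eq_mul, ha z g]; ring }
  have hF : ∀ (f : Γ → k), f ∈ F ↔ ∀ (z : kˣ) g, f (ι z * g) = (z : k) * f g := fun _ => Iff.rfl
  let σ : Representation k Γ F :=
    { toFun := fun g => (LinearMap.funLeft k k (fun x => x * g)).restrict (p := F) (q := F)
        (fun f hf z x => by simp only [LinearMap.funLeft_apply, mul_assoc]; exact hf z _)
      map_one' := by ext f x; simp [LinearMap.restrict_apply]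
      map_mul' := fun a b => by ext f x; simp [LinearMap.restrict_apply, mul_assoc] }
  have hσ : IsW1 ι σ := by
    intro z f
    ext x
    show f.1 (x * ι z) = (z : k) * f.1 x
    rw [hT.iota_comm]; exact f.2 z x
  haveI : Fintype (Γ ⧸ ι.range) := Fintype.ofFinite _
  haveI : FiniteDimensional k F := by
    refine FiniteDimensional.of_injective
      ((LinearMap.funLeft k k (fun x : Γ ⧸ ι.range => x.out)).comp F.subtype) ?_
    intro f f' h
    ext g
    obtain ⟨z, hz⟩ := exists_out g hT
    rw [hz, f.2, f'.2]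
    exact congrArg ((z : k) * ·) (congrFun h (g : Γ ⧸ ι.range))
  haveI : Nontrivial F := by
    let f₀ : Γ → k := fun g => ((exists_out g hT).choose : k)
    have hf₀ : f₀ ∈ F := by
      intro z g
      have h1 := (exists_out g hT).choose_spec
      have h2 := (exists_out (ι z * g) hT).choose_spec
      have hcl : ((ι z * g : Γ) : Γ ⧸ ι.range) = (g : Γ ⧸ ι.range) := by
        rw [QuotientGroup.eq]
        exact ⟨z⁻¹, by rw [mul_inv_rev, ← map_inv, mul_assoc, ← hT.iota_comm, inv_mul_cancel_left]⟩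
      have h3 : ι (exists_out (ι z * g) hT).choose = ι (z * (exists_out g hT).choose) := by
        apply mul_right_cancel (b := ((g : Γ ⧸ ι.range)).out)
        rw [map_mul, mul_assoc, ← h1]
        exact (h2.trans (congrArg (fun q => ι (exists_out (ι z * g) hT).choose * Quotient.out q)
          hcl)).symm
      show ((exists_out (ι z * g) hT).choose : k) = (z : k) * _
      rw [hT.inj h3, Units.val_mul]
    refine ⟨⟨f₀, hf₀⟩, 0, fun h => ?_⟩
    exact Units.ne_zero _ (congrFun (congrArg Subtype.val h) (1 : Γ))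
  obtain ⟨W', hW'⟩ := exists_irreducible_sub σ
  refine ⟨FDRep.of (V := W'.toSubmodule) W'.toRepresentation, ?_, ?_⟩
  · rw [FDRep.of_ρ']; exact hW'
  · rw [FDRep.of_ρ']; intro z v; exact Subtype.ext (hσ z v)

lemma card_ne_zero (hcop : (Nat.card (Γ ⧸ ι.range)).Coprime (ringExpChar k)) {H : Subgroup Γ}
    (hH : H ⊓ ι.range = ⊥) :
    Finite H ∧ (Nat.card H : k) ≠ 0 := by
  haveI := hT.fin
  haveI := hT.normal
  let f : H →* Γ ⧸ ι.range := (QuotientGroup.mk' ι.range).comp H.subtype
  have hf : Function.Injective f := by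
    rw [← MonoidHom.ker_eq_bot_iff, eq_bot_iff]
    intro x hx
    have h1 : (x : Γ) ∈ H ⊓ ι.range := ⟨x.2, (QuotientGroup.eq_one_iff _).1 hx⟩
    rw [hH, Subgroup.mem_bot] at h1
    exact Subgroup.mem_bot.2 (Subtype.ext h1)
  haveI : Finite H := Finite.of_injective f hf
  refine ⟨inferInstance, fun h0 => ?_⟩
  have hdvd : ringChar k ∣ Nat.card (Γ ⧸ ι.range) :=
    ((ringChar.spec k _).1 h0).trans (Subgroup.card_dvd_of_injective f hf)
  have hpos : 0 < Nat.card H := Nat.card_pos
  rcases CharP.char_is_prime_or_zero k (ringChar k) with hp | hz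
  · have : ringExpChar k = ringChar k := by
      rw [ringExpChar, max_eq_left hp.one_le]
    rw [this] at hcop
    exact hp.one_lt.ne' (Nat.dvd_one.1 (hcop ▸ Nat.dvd_gcd hdvd dvd_rfl))
  · have := (ringChar.spec k _).1 h0
    rw [hz, zero_dvd_iff] at this
    exact hpos.ne' this

/-- The centralizer of a maximal level subgroup. -/
lemma mem_level_of_comm {H : Subgroup Γ} (hH : H ⊓ ι.range = ⊥)
    (hmax : ∀ H' : Subgroup Γ, H' ⊓ ι.range = ⊥ → H ≤ H' → H' = H) {x : Γ}
    (hx : ∀ h ∈ H, h * x = x * h) : ∃ h ∈ H, ∃ z, x = h * ι z := by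
  classical
  haveI := hT.fin
  haveI := hT.normal
  let M := H ⊔ ι.range
  have hM : ∀ y, y ∈ M ↔ ∃ h ∈ H, ∃ z, y = h * ι z := by
    intro y
    show y ∈ H ⊔ ι.range ↔ _
    rw [Subgroup.mem_sup_of_normal_right]
    constructor
    · rintro ⟨a, ha, _, ⟨z, rfl⟩, rfl⟩; exact ⟨a, ha, z, rfl⟩
    · rintro ⟨h, hh, z, rfl⟩; exact ⟨h, hh, ι z, ⟨z, rfl⟩, rfl⟩
  by_contra hne
  rw [← hM] at hne
  have hex : ∃ j : ℕ, 0 < j ∧ x ^ j ∈ M :=
    ⟨Nat.card (Γ ⧸ ι.range), Nat.card_pos, Subgroup.mem_sup_right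
      (by rw [← QuotientGroup.eq_one_iff, QuotientGroup.mk_pow, pow_card_eq_one'])⟩
  obtain ⟨m, ⟨hm0, hmem⟩, hmin⟩ : ∃ m, (0 < m ∧ x ^ m ∈ M) ∧ ∀ j < m, ¬ (0 < j ∧ x ^ j ∈ M) :=
    ⟨Nat.find hex, Nat.find_spec hex, fun j => Nat.find_min hex⟩
  obtain ⟨h₀, hh₀, a, hxa⟩ := (hM _).1 hmem
  obtain ⟨c, hc⟩ := IsAlgClosed.exists_pow_nat_eq ((a⁻¹ : kˣ) : k) hm0
  have hc0 : c ≠ 0 := by
    intro h; rw [h, zero_pow hm0.ne'] at hc; exact Units.ne_zero _ hc.symm
  set y := x * ι (Units.mk0 c hc0)
  have hym : y ^ m = h₀ := by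
    have hcomm : Commute x (ι (Units.mk0 c hc0)) := hT.iota_comm _ x
    rw [hcomm.mul_pow, ← map_pow, hxa, mul_assoc, ← map_mul,
      show a * Units.mk0 c hc0 ^ m = 1 from Units.ext (by simp [hc])]
    simp
  have hy : ∀ h ∈ H, h * y = y * h := by
    intro h hh
    rw [← mul_assoc, hx h hh, mul_assoc, hT.iota_comm, ← mul_assoc, mul_assoc x]
  have hyc : ∀ h ∈ H, ∀ j : ℤ, Commute (y ^ j) h := fun h hh j =>
    Commute.zpow_left ((hy h hh).symm) j
  let H' : Subgroup Γ :=
    { carrier := {w | ∃ h ∈ H, ∃ j : ℤ, w = h * y ^ j}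
      one_mem' := ⟨1, H.one_mem, 0, by simp⟩
      mul_mem' := by
        rintro _ _ ⟨h, hh, j, rfl⟩ ⟨h', hh', j', rfl⟩
        exact ⟨h * h', H.mul_mem hh hh', j + j', by
          rw [zpow_add, mul_assoc, ← mul_assoc (y ^ j), (hyc h' hh' j).eq]; simp only [mul_assoc]⟩
      inv_mem' := by
        rintro _ ⟨h, hh, j, rfl⟩
        exact ⟨h⁻¹, H.inv_mem hh, -j, by
          rw [mul_inv_rev, ← zpow_neg, (hyc _ (H.inv_mem hh) _).eq]⟩ }
  have hleH : H ≤ H' := fun h hh => ⟨h, hh, 0, by simp⟩
  have hbot : H' ⊓ ι.range = ⊥ := by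
    rw [eq_bot_iff]
    rintro w ⟨⟨h, hh, j, rfl⟩, hw2⟩
    have hxj : x ^ j ∈ M := by
      have h1 : h * y ^ j ∈ M := Subgroup.mem_sup_right hw2
      have h2 : y ^ j ∈ M := (M.mul_mem_cancel_left (Subgroup.mem_sup_left hh)).1 h1
      have hcomm : Commute x (ι (Units.mk0 c hc0)) := hT.iota_comm _ x
      rw [hcomm.mul_zpow, ← map_zpow] at h2
      exact (M.mul_mem_cancel_right (Subgroup.mem_sup_right ⟨_, rfl⟩)).1 h2
    have hr : x ^ (j % (m : ℤ)) ∈ M := by
      rw [Int.emod_def, zpow_sub, zpow_mul, zpow_natCast]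
      exact M.mul_mem hxj (M.inv_mem (M.zpow_mem hmem _))
    have hj : j % (m : ℤ) = 0 := by
      by_contra hne0
      have h0 : 0 ≤ j % (m : ℤ) := Int.emod_nonneg _ (by omega)
      have h1 : j % (m : ℤ) < m := Int.emod_lt_of_pos _ (by omega)
      obtain ⟨n, hn⟩ := Int.eq_ofNat_of_zero_le h0
      rw [hn, zpow_natCast] at hr
      exact hmin n (by omega) ⟨by omega, hr⟩
    obtain ⟨q, rfl⟩ := Int.dvd_of_emod_eq_zero hj
    rw [← hH]
    refine ⟨H.mul_mem hh ?_, hw2⟩
    rw [zpow_mul, zpow_natCast, hym]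
    exact H.zpow_mem hh₀ _
  apply hne
  rw [hM]
  have hyH : y ∈ H := hmax H' hbot hleH ▸ (⟨1, H.one_mem, 1, by simp⟩ : y ∈ H')
  exact ⟨y, hyH, (Units.mk0 c hc0)⁻¹, by simp [y, mul_assoc]⟩

theorem finrank_invariants_mul {V : Type u} [AddCommGroup V] [Module k V] [FiniteDimensional k V]
    {ρ : Representation k Γ V} (hirr : Representation.IsIrreducible ρ) (hρ : IsW1 ι ρ)
    {W : Type u} [AddCommGroup W] [Module k W] [FiniteDimensional k W]
    {σ : Representation k Γ W} (hσ : IsW1 ι σ)
    (hcop : (Nat.card (Γ ⧸ ι.range)).Coprime (ringExpChar k)) {H : Subgroup Γ}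
    (hH : H ⊓ ι.range = ⊥)
    (hmax : ∀ H' : Subgroup Γ, H' ⊓ ι.range = ⊥ → H ≤ H' → H' = H) :
    finrank k W =
      finrank k (Representation.invariants (σ.comp H.subtype)) * finrank k V := by
  haveI := nontrivial_of_irreducible hirr
  haveI := hT.fin
  haveI := hT.normal
  obtain ⟨hfin, hn⟩ := hT.card_ne_zero hcop hH
  haveI : Fintype H := Fintype.ofFinite H
  obtain ⟨Φ, hΦ⟩ := hT.exists_algHom hirr hρ hσ
  obtain ⟨P, hP⟩ : ∃ P : Module.End k V, P = (Nat.card H : k)⁻¹ • ∑ h : H, ρ (h : Γ) := ⟨_, rfl⟩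
  have hleft : ∀ h : H, ρ (h : Γ) * P = P := by
    intro h
    rw [hP, mul_smul_comm, Finset.mul_sum]
    congr 1
    exact Fintype.sum_equiv (Equiv.mulLeft h) _ _ (fun a => by simp [← map_mul])
  have hright : ∀ h : H, P * ρ (h : Γ) = P := by
    intro h
    rw [hP, smul_mul_assoc, Finset.sum_mul]
    congr 1
    exact Fintype.sum_equiv (Equiv.mulRight h) _ _ (fun a => by simp [← map_mul])
  have hsq : P * P = P := by
    conv_lhs => rw [hP, smul_mul_assoc, Finset.sum_mul, ← hP]
    simp only [hleft, Finset.sum_const, Finset.card_univ, ← Nat.cast_smul_eq_nsmul k, smul_smul,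
      ← Nat.card_eq_fintype_card]
    rw [inv_mul_cancel₀ hn, one_smul]
  have hP0 : P ≠ 0 := by
    intro h0
    rw [hP, smul_eq_zero, or_iff_right (inv_ne_zero hn)] at h0
    have hinj : Function.Injective (fun h : H => ((h : Γ) : Γ ⧸ ι.range)) := by
      intro a b hab
      have h1 : (a : Γ)⁻¹ * b ∈ H ⊓ ι.range :=
        ⟨H.mul_mem (H.inv_mem a.2) b.2, QuotientGroup.eq.1 hab⟩
      rw [hH, Subgroup.mem_bot, inv_mul_eq_one] at h1
      exact Subtype.ext h1
    choose z hz using fun h : H => exists_out (h : Γ) hT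
    have hli := (hT.linearIndependent_out hρ).comp _ hinj
    rw [Fintype.linearIndependent_iff] at hli
    have := hli (fun h => (z h : k)) (by
      rw [← h0]
      refine Finset.sum_congr rfl fun h _ => ?_
      conv_rhs => rw [hz h, hρ.map_iota_mul]
      rfl) ⟨1, H.one_mem⟩
    exact Units.ne_zero _ this
  have hPAP : ∀ A, P * A * P ∈ (Submodule.span k {P} : Submodule k (Module.End k V)) := by
    intro A
    have hA : A ∈ Submodule.span k (Set.range fun x : Γ ⧸ ι.range => ρ x.out) :=
      hT.span_out hirr hρ trivial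
    induction hA using Submodule.span_induction with
    | zero => simp
    | add A B _ _ ha hb => rw [mul_add, add_mul]; exact add_mem ha hb
    | smul c A _ ha => rw [mul_smul_comm, smul_mul_assoc]; exact Submodule.smul_mem _ c ha
    | mem A hA =>
      obtain ⟨q, rfl⟩ := hA
      show P * ρ q.out * P ∈ _
      generalize q.out = x
      by_cases hx : ∀ h ∈ H, h * x = x * h
      · obtain ⟨h, hh, z, rfl⟩ := hT.mem_level_of_comm hH hmax hx
        rw [hT.iota_comm, hρ.map_iota_mul, mul_smul_comm, smul_mul_assoc, hright ⟨h, hh⟩, hsq]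
        exact Submodule.smul_mem _ _ (Submodule.mem_span_singleton_self P)
      · push Not at hx
        obtain ⟨h, hh, hne⟩ := hx
        have he : (hT.e h x : k) ≠ 1 := fun h1 => hne (hT.e_eq_one_iff.1 (Units.ext h1))
        have key : P * ρ x * P = (hT.e h x : k) • (P * ρ x * P) := by
          calc P * ρ x * P = P * ρ h * ρ x * P := by rw [hright ⟨h, hh⟩]
            _ = P * ρ (h * x) * P := by rw [map_mul, mul_assoc P (ρ h)]
            _ = (hT.e h x : k) • (P * (ρ x * ρ h) * P) := by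
              rw [hT.e_spec h x, hρ.map_iota_mul, map_mul, mul_smul_comm, smul_mul_assoc]
            _ = _ := by rw [← mul_assoc P, mul_assoc (P * ρ x), hleft ⟨h, hh⟩]
        have : ((hT.e h x : k) - 1) • (P * ρ x * P) = 0 := by
          rw [sub_smul, one_smul, ← key, sub_self]
        rw [(smul_eq_zero.1 this).resolve_left (sub_ne_zero.2 he)]
        exact Submodule.zero_mem _
  obtain ⟨v, hv⟩ : ∃ v, P v ≠ 0 := by
    by_contra h; push Not at h; exact hP0 (LinearMap.ext h)
  have hfix : P (P v) = P v := congrArg (fun T : Module.End k V => T v) hsq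
  obtain ⟨φ₀, hφ₀⟩ := Module.Projective.exists_dual_eq_one k hv
  have hPform : P = (φ₀ ∘ₗ P).smulRight (P v) := by
    ext u
    obtain ⟨c, hc⟩ := Submodule.mem_span_singleton.1 (hPAP (φ₀.smulRight u))
    have h1 := congrArg (fun T : Module.End k V => T (P v)) hc
    simp only [LinearMap.smul_apply, Module.End.mul_apply, hfix, LinearMap.smulRight_apply, hφ₀,
      one_smul] at h1
    rw [LinearMap.smulRight_apply, LinearMap.comp_apply, ← h1, map_smul, hφ₀, smul_eq_mul, mul_one]
  have hφ : (φ₀ ∘ₗ P) (P v) = 1 := by rw [LinearMap.comp_apply, hfix, hφ₀]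
  rw [finrank_eq_finrank_range_mul Φ (φ₀ ∘ₗ P) (P v) hφ, ← hPform]
  congr 1
  refine LinearEquiv.finrank_eq (LinearEquiv.ofEq _ _ (Submodule.ext fun w => ?_))
  rw [Representation.mem_invariants]
  constructor
  · rintro ⟨y, rfl⟩ h
    show σ (h : Γ) (Φ P y) = Φ P y
    rw [← hΦ, ← Module.End.mul_apply, ← map_mul, hleft h]
  · intro hw
    refine ⟨w, ?_⟩
    rw [hP, map_smul, map_sum, LinearMap.smul_apply, LinearMap.sum_apply]
    rw [Finset.sum_congr rfl (fun h _ => by rw [hΦ]; exact hw h : ∀ h ∈ (Finset.univ : Finset H),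
      Φ (ρ (h : Γ)) w = w)]
    rw [Finset.sum_const, Finset.card_univ, ← Nat.cast_smul_eq_nsmul k, smul_smul,
      ← Nat.card_eq_fintype_card, inv_mul_cancel₀ hn, one_smul]

end ThetaHyp

end ThetaRep
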