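import Groth.Agent.Lib.ThetaRep.Group

/-!
Weight-one representations of non-degenerate theta groups (Stone–von Neumann).
-/

set_option linter.style.haveILetI false

namespace ThetaRep

open Module

variable {k : Type*} [Field k] {Γ : Type*} [Group Γ]

/-- weight one -/
def IsW1 (ι : kˣ →* Γ) {W : Type*} [AddCommGroup W] [Module k W]
    (σ : Representation k Γ W) : Prop :=
  ∀ (z : kˣ) (w : W), σ (ι z) w = (z : k) • w

variable {ι : kˣ →* Γ}

lemma IsW1.map_iota_mul {W : Type*} [AddCommGroup W] [Module k W] {σ : Representation k Γ W}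
    (h : IsW1 ι σ) (z : kˣ) (g : Γ) : σ (ι z * g) = (z : k) • σ g := by
  rw [map_mul]
  exact LinearMap.ext fun w => h z (σ g w)

/-- every element is a central element times a chosen representative -/
lemma exists_out (g : Γ) : ∀ _hT : ThetaHyp ι,
    ∃ z : kˣ, g = ι z * (g : Γ ⧸ ι.range).out := by
  intro hT
  obtain ⟨⟨h, z, rfl⟩, hh⟩ := QuotientGroup.mk_out_eq_mul ι.range g
  refine ⟨z⁻¹, ?_⟩
  rw [hh]
  show g = ι z⁻¹ * (g * ι z)
  rw [hT.iota_comm, ← mul_assoc, ← map_mul]
  simp

namespace ThetaHyp

variable (hT : ThetaHyp ι) {V : Type*} [AddCommGroup V] [Module k V] {ρ : Representation k Γ V}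
include hT

lemma linearIndependent_out [Nontrivial V] (hρ : IsW1 ι ρ) :
    LinearIndependent k (fun x : Γ ⧸ ι.range => ρ x.out) := by
  classical
  haveI := hT.fin
  haveI : Fintype (Γ ⧸ ι.range) := Fintype.ofFinite _
  rw [Fintype.linearIndependent_iff]
  intro c hc
  -- the characters
  let χ : (Γ ⧸ ι.range) → (Γ →* k) := fun x => (Units.coeHom k).comp (hT.E.flip x.out)
  have hχ : Function.Injective χ := by
    intro x y hxy
    have h1 : ∀ g, hT.e g x.out = hT.e g y.out := fun g => Units.ext congr($hxy g)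
    have h2 : x.out⁻¹ * y.out ∈ ι.range := by
      refine hT.mem_range_of_forall fun g => ?_
      have : hT.e g (x.out⁻¹ * y.out) = (hT.E g) (x.out⁻¹ * y.out) := rfl
      rw [this, map_mul, map_inv, E_apply, E_apply, h1, inv_mul_cancel]
    rw [← QuotientGroup.out_eq' x, ← QuotientGroup.out_eq' y]
    exact QuotientGroup.eq.2 h2
  have hli := (linearIndependent_monoidHom Γ k).comp χ hχ
  rw [Fintype.linearIndependent_iff] at hli
  have hconj : ∀ g : Γ, ∑ x, (c x * (hT.e g x.out : k)) • ρ x.out = 0 := by
    intro g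
    have h1 : ρ g * (∑ x, c x • ρ x.out) = (∑ x, (c x * (hT.e g x.out : k)) • ρ x.out) * ρ g := by
      rw [Finset.mul_sum, Finset.sum_mul]
      refine Finset.sum_congr rfl fun x _ => ?_
      rw [mul_smul_comm, smul_mul_assoc, ← map_mul, hT.e_spec g x.out, hρ.map_iota_mul, smul_smul,
        ← map_mul]
    rw [hc, mul_zero] at h1
    have h2 := congrArg (fun T : Module.End k V => T * ρ g⁻¹) h1.symm
    simp only [zero_mul, mul_assoc, ← map_mul, mul_inv_cancel, map_one, mul_one] at h2
    exact h2
  intro x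
  by_contra hx
  obtain ⟨v, hv⟩ := exists_ne (0 : V)
  have hv' : ρ x.out v ≠ 0 := by
    intro h0
    apply hv
    have := congrArg (ρ x.out⁻¹) h0
    rw [map_zero, ← Module.End.mul_apply, ← map_mul, inv_mul_cancel, map_one] at this
    exact this
  apply hv'
  rw [← Module.forall_dual_apply_eq_zero_iff k]
  intro φ
  have := hli (fun y => c y * φ (ρ y.out v)) (by
    funext g
    have h := congrArg (fun T : Module.End k V => φ (T v)) (hconj g)
    simp only [LinearMap.coe_sum, Finset.sum_apply, map_sum, LinearMap.smul_apply, map_smul,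
      smul_eq_mul, LinearMap.zero_apply, map_zero] at h
    simp only [Function.comp_apply, Finset.sum_apply, Pi.smul_apply, smul_eq_mul, Pi.zero_apply]
    rw [← h]
    refine Finset.sum_congr rfl fun y _ => ?_
    show c y * φ (ρ y.out v) * (hT.e g y.out : k) = _
    ring) x
  exact (mul_eq_zero.1 this).resolve_left hx

lemma span_out [IsAlgClosed k] [FiniteDimensional k V] (hirr : Representation.IsIrreducible ρ)
    (hρ : IsW1 ι ρ) : ⊤ ≤ Submodule.span k (Set.range fun x : Γ ⧸ ι.range => ρ x.out) := by
  intro T _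
  set S := Submodule.span k (Set.range fun x : Γ ⧸ ι.range => ρ x.out)
  have halg : ∀ r, ρ.asAlgebraHom r ∈ S := by
    intro r
    induction r using MonoidAlgebra.induction_linear with
    | zero => simp
    | add a b ha hb => rw [map_add]; exact S.add_mem ha hb
    | single g a =>
      rw [Representation.asAlgebraHom_single]
      refine S.smul_mem a ?_
      obtain ⟨z, hz⟩ := exists_out g hT
      rw [hz, hρ.map_iota_mul]
      exact S.smul_mem _ (Submodule.subset_span ⟨_, rfl⟩)
  haveI : IsSimpleModule (MonoidAlgebra k Γ) ρ.asModule :=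
    (Representation.irreducible_iff_isSimpleModule_asModule ρ).1 hirr
  haveI : FiniteDimensional k ρ.asModule := ρ.asModuleEquiv.symm.finiteDimensional
  have hbij := IsSimpleModule.algebraMap_end_bijective_of_isAlgClosed (A := MonoidAlgebra k Γ)
    (V := ρ.asModule) k
  let T' : ρ.asModule → ρ.asModule := fun m => ρ.asModuleEquiv.symm (T (ρ.asModuleEquiv m))
  let f : Module.End (Module.End (MonoidAlgebra k Γ) ρ.asModule) ρ.asModule :=
    { toFun := T'
      map_add' := fun a b => by simp [T']
      map_smul' := fun φ m => by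
        obtain ⟨c, rfl⟩ := hbij.2 φ
        simp [T', Module.End.smul_def, Module.algebraMap_end_apply] }
  let b := Module.finBasis k ρ.asModule
  classical
  obtain ⟨r, hr⟩ := jacobson_density f (Finset.univ.image b)
  have : T = ρ.asAlgebraHom r := by
    refine (b.map ρ.asModuleEquiv).ext fun i => ?_
    have h := hr (b i) (Finset.mem_image_of_mem _ (Finset.mem_univ i))
    have h2 := congrArg ρ.asModuleEquiv h
    rw [Representation.asModuleEquiv_map_smul] at h2
    simpa [f, T'] using h2
  rw [this]
  exact halg r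

/-- the basis of `End V` for an irreducible weight-one `V` -/
noncomputable def endBasis [IsAlgClosed k] [FiniteDimensional k V] [Nontrivial V]
    (hirr : Representation.IsIrreducible ρ) (hρ : IsW1 ι ρ) :
    Basis (Γ ⧸ ι.range) k (Module.End k V) :=
  Basis.mk (hT.linearIndependent_out hρ) (hT.span_out hirr hρ)

end ThetaHyp

lemma nontrivial_of_irreducible {V : Type*} [AddCommGroup V] [Module k V]
    {ρ : Representation k Γ V} (hirr : Representation.IsIrreducible ρ) : Nontrivial V := by
  by_contra h
  rw [not_nontrivial_iff_subsingleton] at h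
  exact absurd (SetLike.coe_injective (Set.ext fun v => by
    simp [Subsingleton.elim v (0 : V)]
    exact iff_of_true (⊥ : Subrepresentation ρ).toSubmodule.zero_mem
      (⊤ : Subrepresentation ρ).toSubmodule.zero_mem) : (⊥ : Subrepresentation ρ) = ⊤) bot_ne_top

namespace ThetaHyp

variable (hT : ThetaHyp ι) {V : Type*} [AddCommGroup V] [Module k V] [FiniteDimensional k V]
  [IsAlgClosed k] {ρ : Representation k Γ V}
include hT

lemma finrank_sq (hirr : Representation.IsIrreducible ρ) (hρ : IsW1 ι ρ) :
    finrank k V ^ 2 = Nat.card (Γ ⧸ ι.range) := by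
  haveI := nontrivial_of_irreducible hirr
  haveI := hT.fin
  haveI : Fintype (Γ ⧸ ι.range) := Fintype.ofFinite _
  rw [sq, ← Module.finrank_linearMap k k V V, Nat.card_eq_fintype_card]
  exact Module.finrank_eq_card_basis (hT.endBasis hirr hρ)

lemma exists_algHom (hirr : Representation.IsIrreducible ρ) (hρ : IsW1 ι ρ)
    {W : Type*} [AddCommGroup W] [Module k W] {σ : Representation k Γ W} (hσ : IsW1 ι σ) :
    ∃ Φ : Module.End k V →ₐ[k] Module.End k W, ∀ g, Φ (ρ g) = σ g := by
  haveI := nontrivial_of_irreducible hirr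
  set b := hT.endBasis hirr hρ
  have hb : ∀ x, b x = ρ x.out := fun x => by simp [b, endBasis]
  let L : Module.End k V →ₗ[k] Module.End k W := b.constr k fun x => σ x.out
  have hL : ∀ g, L (ρ g) = σ g := by
    intro g
    obtain ⟨z, hz⟩ := exists_out g hT
    rw [hz, hρ.map_iota_mul, hσ.map_iota_mul, map_smul, ← hb, Basis.constr_basis]
  refine ⟨AlgHom.ofLinearMap L ?_ ?_, hL⟩
  · simpa using hL 1
  · rw [LinearMap.map_mul_iff]
    refine b.ext fun i => b.ext fun j => ?_
    simp only [LinearMap.compr₂_apply, LinearMap.mul_apply', hb, LinearMap.compl₂_apply,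
      LinearMap.comp_apply, ← map_mul, hL]

/-- the structure map preserves every subrepresentation -/
lemma algHom_mem (hirr : Representation.IsIrreducible ρ) (hρ : IsW1 ι ρ)
    {W : Type*} [AddCommGroup W] [Module k W] {σ : Representation k Γ W}
    {Φ : Module.End k V →ₐ[k] Module.End k W} (hΦ : ∀ g, Φ (ρ g) = σ g)
    (W' : Subrepresentation σ) (A : Module.End k V) {w : W} (hw : w ∈ W'.toSubmodule) :
    Φ A w ∈ W'.toSubmodule := by
  have hA : A ∈ Submodule.span k (Set.range fun x : Γ ⧸ ι.range => ρ x.out) :=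
    hT.span_out hirr hρ trivial
  induction hA using Submodule.span_induction with
  | mem A hA =>
    obtain ⟨x, rfl⟩ := hA
    rw [hΦ]; exact W'.apply_mem_toSubmodule _ hw
  | zero => simp
  | add A B _ _ ha hb => rw [map_add]; exact W'.toSubmodule.add_mem ha hb
  | smul c A _ ha => rw [map_smul]; exact W'.toSubmodule.smul_mem c ha

end ThetaHyp

section Decompose

variable {V : Type*} [AddCommGroup V] [Module k V] {W : Type*} [AddCommGroup W] [Module k W]
  (Φ : Module.End k V →ₐ[k] Module.End k W) (φ : Dual k V) (v₀ : V)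

lemma smulRight_mul_smulRight (φ ψ : Dual k V) (v w : V) :
    φ.smulRight v * ψ.smulRight w = φ w • ψ.smulRight v := by
  ext u
  simp [smul_smul, mul_comm]

lemma finrank_eq_finrank_range_mul [FiniteDimensional k V] [FiniteDimensional k W]
    (hφ : φ v₀ = 1) :
    finrank k W = finrank k (LinearMap.range (Φ (φ.smulRight v₀))) * finrank k V := by
  let b := Module.finBasis k V
  set U := LinearMap.range (Φ (φ.smulRight v₀))
  let F : (Fin (finrank k V) → U) →ₗ[k] W :=
    ∑ i, (Φ (φ.smulRight (b i))) ∘ₗ U.subtype ∘ₗ LinearMap.proj i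
  have hG : ∀ i w, Φ ((b.coord i).smulRight v₀) w ∈ U := fun i w =>
    ⟨Φ ((b.coord i).smulRight v₀) w, by
      rw [← Module.End.mul_apply, ← map_mul, smulRight_mul_smulRight, hφ, one_smul]⟩
  let G : W →ₗ[k] (Fin (finrank k V) → U) :=
    LinearMap.pi fun i => (Φ ((b.coord i).smulRight v₀)).codRestrict U (hG i)
  have h1 : F ∘ₗ G = LinearMap.id := by
    ext w
    simp only [F, G, LinearMap.comp_apply, LinearMap.sum_apply, LinearMap.proj_apply,
      LinearMap.pi_apply, Submodule.subtype_apply, LinearMap.codRestrict_apply, LinearMap.id_apply]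
    simp only [← Module.End.mul_apply, ← map_mul, smulRight_mul_smulRight, hφ, one_smul]
    rw [← LinearMap.sum_apply, ← map_sum]
    have : ∑ i, (b.coord i).smulRight (b i) = (1 : Module.End k V) := by
      ext u; simp [b.sum_repr]
    rw [this, map_one, Module.End.one_apply]
  have h2 : G ∘ₗ F = LinearMap.id := by
    refine LinearMap.pi_ext' fun j => LinearMap.ext fun u => funext fun i => Subtype.ext ?_
    obtain ⟨w, hw⟩ := u.2
    simp only [F, G, LinearMap.comp_apply, LinearMap.sum_apply, LinearMap.proj_apply,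
      LinearMap.pi_apply, Submodule.subtype_apply, LinearMap.codRestrict_apply, LinearMap.id_apply,
      LinearMap.coe_single, map_sum]
    rw [Finset.sum_eq_single j]
    · rw [LinearMap.codRestrict_apply, Pi.single_eq_same, ← hw, ← Module.End.mul_apply,
        ← Module.End.mul_apply, ← map_mul, ← map_mul, smulRight_mul_smulRight,
        smul_mul_assoc, smulRight_mul_smulRight, hφ, one_smul, map_smul, LinearMap.smul_apply]
      rcases eq_or_ne i j with rfl | h
      · simp [hw]
      · simp [h]
    · intro l _ hl; simp [hl]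
    · simp
  rw [← (LinearEquiv.ofLinearMap F G h1 h2).finrank_eq, Module.finrank_pi_fintype]
  simp [mul_comm]

end Decompose

namespace ThetaHyp

variable (hT : ThetaHyp ι) {V : Type*} [AddCommGroup V] [Module k V] [FiniteDimensional k V]
  [IsAlgClosed k] {ρ : Representation k Γ V}
include hT

lemma isSemisimple (hirr : Representation.IsIrreducible ρ) (hρ : IsW1 ι ρ)
    {W : Type*} [AddCommGroup W] [Module k W] {σ : Representation k Γ W} (hσ : IsW1 ι σ) :
    Representation.IsSemisimpleRepresentation σ := by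
  haveI := nontrivial_of_irreducible hirr
  obtain ⟨Φ, hΦ⟩ := hT.exists_algHom hirr hρ hσ
  let b := Module.finBasis k V
  obtain ⟨v₀, hv₀⟩ := exists_ne (0 : V)
  obtain ⟨φ, hφ⟩ := Module.Projective.exists_dual_eq_one k hv₀
  refine ⟨fun W' => ?_⟩
  set U := LinearMap.range (Φ (φ.smulRight v₀))
  obtain ⟨C₀, hC₀⟩ := exists_isCompl (W'.toSubmodule ⊓ U)
  let C := C₀ ⊓ U
  let S : Submodule k W := ⨅ A : Module.End k V, C.comap (Φ (φ.smulRight v₀ * A))
  have hS : ∀ w, w ∈ S ↔ ∀ A, Φ (φ.smulRight v₀ * A) w ∈ C := fun w => by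
    simp [S, Submodule.mem_iInf]
  let W'' : Subrepresentation σ := ⟨S, fun g w hw => by
    rw [hS] at hw ⊢
    intro A
    rw [← hΦ, ← Module.End.mul_apply, ← map_mul, mul_assoc]
    exact hw _⟩
  have hid : ∀ w, ∑ i, Φ (φ.smulRight (b i)) (Φ ((b.coord i).smulRight v₀) w) = w := by
    intro w
    simp only [← Module.End.mul_apply, ← map_mul, smulRight_mul_smulRight, hφ, one_smul]
    rw [← LinearMap.sum_apply, ← map_sum]
    have : ∑ i, (b.coord i).smulRight (b i) = (1 : Module.End k V) := by
      ext u; simp [b.sum_repr]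
    rw [this, map_one, Module.End.one_apply]
  have hU : ∀ (ψ : Dual k V) w, Φ (ψ.smulRight v₀) w ∈ U := fun ψ w =>
    ⟨Φ (ψ.smulRight v₀) w, by
      rw [← Module.End.mul_apply, ← map_mul, smulRight_mul_smulRight, hφ, one_smul]⟩
  refine ⟨W'', ?_, ?_⟩
  · rw [disjoint_iff_inf_le]
    rintro w ⟨hw1, hw2⟩
    show w ∈ (⊥ : Submodule k W)
    rw [Submodule.mem_bot, ← hid w]
    refine Finset.sum_eq_zero fun i _ => ?_
    have h1 : Φ ((b.coord i).smulRight v₀) w ∈ W'.toSubmodule := hT.algHom_mem hirr hρ hΦ W' _ hw1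
    have h2 := (hS w).1 hw2 ((b.coord i).smulRight v₀)
    rw [smulRight_mul_smulRight, hφ, one_smul] at h2
    rw [(Submodule.disjoint_def.1 hC₀.disjoint) _ ⟨h1, h2.2⟩ h2.1, map_zero]
  · rw [codisjoint_iff_le_sup]
    intro w _
    show w ∈ W'.toSubmodule ⊔ S
    rw [← hid w]
    refine Submodule.sum_mem _ fun i _ => ?_
    obtain ⟨a, ha, c, hc, hac⟩ := Submodule.mem_sup.1
      (hC₀.sup_eq_top.ge (Submodule.mem_top (x := Φ ((b.coord i).smulRight v₀) w)))
    have hcU : c ∈ U := by
      rw [eq_sub_of_add_eq' hac]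
      exact U.sub_mem (hU _ w) ha.2
    have hPc : Φ (φ.smulRight v₀) c = c := by
      obtain ⟨y, rfl⟩ := hcU
      rw [← Module.End.mul_apply, ← map_mul, smulRight_mul_smulRight, hφ, one_smul]
    rw [← hac, map_add]
    refine Submodule.add_mem_sup (hT.algHom_mem hirr hρ hΦ W' _ ha.1) ?_
    rw [hS]
    intro A
    have : φ.smulRight v₀ * A * φ.smulRight (b i) = φ (A (b i)) • φ.smulRight v₀ := by
      ext u; simp [smul_smul, mul_comm]
    rw [← Module.End.mul_apply, ← map_mul, this, map_smul, LinearMap.smul_apply, hPc]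
    exact C.smul_mem _ ⟨hc, hcU⟩

end ThetaHyp

end ThetaRep
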